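import Cfsg.Agent.H934.FF.AtwoStep

/-!
# S2465, `F₄(3)`, (U1): conjugates of `r`-elements of `F₄(q)` outside the radicals of `P_{C₃}` and `P_{B₃}` (helper934)

Nodes of `chevF4`: `0`, `1` short, `2`, `3` long. `exists_conj_notMem_C3` : `J = {0, 1, 2}`; `exists_conj_notMem_B3` :
`J = {1, 2, 3}`.
-/

set_option autoImplicit false
set_option linter.unusedSectionVars false

namespace Cfsg.Agent.H934.FF

open CoxeterSystem Cfsg.Agent.ChevalleyStructure.CoxeterGeom Cfsg.Agent.Tits.Roots Cfsg.Agent.Tits.Core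
  Cfsg.Agent.Nodes.Reps Cfsg.Agent.Nodes.BNOf Cfsg.Agent.Nodes.RGDLib Cfsg.Agent.Nodes.Bruhat
  Cfsg.Agent.Nodes.OppDec Cfsg.Agent.Nodes.LeviDec
open Cfsg.Lie Cfsg.Agent.ChevalleyStructure Cfsg.Agent.ChevalleyStructure.CoxeterGeomTypes
  Cfsg.Agent.Nodes.RGDChev Cfsg.Agent.KFacts.RgdChevCoord Cfsg.Agent.H537.Pw

universe u

variable {K : Type u} [Field K] {D : ChevalleyDatum} {l : ℕ} {M : CoxeterMatrix (Fin l)} (hp : IsType D l M)

include hp in
theorem exists_conj_chev [Finite K] {r : ℕ} [Fact r.Prime] [CharP K r] (hs : IsSimpleGroup ↥(D.group K))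
    {J : Set (Fin l)} {i j : Fin l} (hJ : ∀ k, k ∈ J ∨ k = i) (hj : j ∈ J) (hij : i ≠ j)
    (h1 : cartanOf D l i j = -1) (h2 : cartanOf D l j i = -1)
    {g : ↥(D.group K)} (hg1 : g ≠ 1) {k : ℕ} (hg : g ^ r ^ k = 1) :
    ∃ x : ↥(D.group K), x * g * x⁻¹ ∈ RGD.Sup (XX D l K) (RGD.Pos M.toCoxeterSystem hp.isCartan) ∧
      x * g * x⁻¹ ∉ VJ M.toCoxeterSystem hp.isCartan (XX D l K) J := by
  have R := Cfsg.Agent.Nodes.RGDChev.rgd (K := K) hp M.toCoxeterSystem r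
  have := finite_W hp M.toCoxeterSystem
  have : Nonempty (Fin l) := ⟨i⟩
  have hG1 := G1_eq_top hp (K := K) M.toCoxeterSystem
  have hG : GG M.toCoxeterSystem hp.isCartan ((D.diagonalSubgroup K).subgroupOf (D.group K)) (XX D l K) = ⊤ := by
    rw [eq_top_iff, ← hG1]
    exact le_sup_right
  exact exists_conj_notMem R hG hs hJ hj hij h1 h2 hg1 hg

/-- **(U1)** every nontrivial `r`-element of `F₄(q)` has a conjugate in `U` outside the radical of type `C₃` -/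
theorem exists_conj_notMem_C3 [Finite K] {r : ℕ} [Fact r.Prime] [CharP K r]
    (hs : IsSimpleGroup ↥(chevF4.group K)) {g : ↥(chevF4.group K)} (hg1 : g ≠ 1) {k : ℕ} (hg : g ^ r ^ k = 1) :
    ∃ x : ↥(chevF4.group K), x * g * x⁻¹ ∈ RGD.Sup (XX chevF4 4 K)
        (RGD.Pos CoxeterMatrix.F₄.toCoxeterSystem isType_F4.isCartan) ∧
      x * g * x⁻¹ ∉ VJ CoxeterMatrix.F₄.toCoxeterSystem isType_F4.isCartan (XX chevF4 4 K) ({0, 1, 2} : Set (Fin 4)) :=
  exists_conj_chev isType_F4 hs (i := 3) (j := 2) (by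
    intro k
    fin_cases k <;> simp) (by simp) (by decide) (by decide +kernel) (by decide +kernel) hg1 hg

/-- every nontrivial `r`-element of `F₄(q)` has a conjugate in `U` outside the radical of type `B₃` -/
theorem exists_conj_notMem_B3 [Finite K] {r : ℕ} [Fact r.Prime] [CharP K r]
    (hs : IsSimpleGroup ↥(chevF4.group K)) {g : ↥(chevF4.group K)} (hg1 : g ≠ 1) {k : ℕ} (hg : g ^ r ^ k = 1) :
    ∃ x : ↥(chevF4.group K), x * g * x⁻¹ ∈ RGD.Sup (XX chevF4 4 K)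
        (RGD.Pos CoxeterMatrix.F₄.toCoxeterSystem isType_F4.isCartan) ∧
      x * g * x⁻¹ ∉ VJ CoxeterMatrix.F₄.toCoxeterSystem isType_F4.isCartan (XX chevF4 4 K) ({1, 2, 3} : Set (Fin 4)) :=
  exists_conj_chev isType_F4 hs (i := 0) (j := 1) (by
    intro k
    fin_cases k <;> simp) (by simp) (by decide) (by decide +kernel) (by decide +kernel) hg1 hg

end Cfsg.Agent.H934.FF
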