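import Cfsg.Agent.H934.FF.HZero
import Cfsg.Agent.H934.FF.EOne
import Cfsg.Agent.H934.HeisChev

/-!
# S2465, `F₄(3)`, (U3) (helper934)

`G = F₄(K)`, `char K ≠ 2`, `V_J`, `J = {0, 1, 2}` (type `C₃`), of order `q^(1+14)`; `a₂` = root number `25` (the long
fundamental root of `C₃`), `θ` = root number `47`. `uThree`: for `v ∈ V_J`, `c ≠ 0`, either some `y ∈ V_J` has
`y (x_{a₂}(c) v) y⁻¹ = x_{a₂}(c) v x_θ(d)`, `d ≠ 0`, or `x_{a₂}(c) v` is conjugate to some `x_{a₂}(c) x_θ(d)`.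
-/

set_option autoImplicit false
set_option linter.unusedSectionVars false

namespace Cfsg.Agent.H934.FF

open CoxeterSystem Cfsg.Agent.ChevalleyStructure.CoxeterGeom Cfsg.Agent.Tits.Roots Cfsg.Agent.Tits.Core
  Cfsg.Agent.Nodes.Reps Cfsg.Agent.Nodes.BNOf Cfsg.Agent.Nodes.RGDLib Cfsg.Agent.Nodes.Bruhat
  Cfsg.Agent.Nodes.OppDec Cfsg.Agent.Nodes.LeviDec Cfsg.Agent.Nodes.StabComb
open Cfsg.Lie Cfsg.Agent.ChevalleyStructure Cfsg.Agent.ChevalleyStructure.Elts
  Cfsg.Agent.ChevalleyStructure.CoxeterGeomTypes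
  Cfsg.Agent.Nodes.RGDChev Cfsg.Agent.KFacts.RgdChevCoord Cfsg.Agent.H934.HeisChev Cfsg.Agent.H537.Pw

universe u

section Word

variable {D : ChevalleyDatum} (hD : InList D) {F : Type u} [Field F]

/-- commutator formula with two terms, the second one of degree `(1, 2)` -/
theorem comm_two {r s l l' : ℕ} {c c' : ℤ} (hr : r < D.nroots) (hs : s < D.nroots) (hrs : s ≠ r) (hneg : s ≠ D.neg r)
    (h : D.commTerms r s = [(l, c, 1, 1), (l', c', 1, 2)]) (t u : F) :
    xe hD s u * xe hD r t = xe hD r t * xe hD s u * (xe hD l (-(c : F) * t * u) * xe hD l' (-(c' : F) * t * u ^ 2)) := by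
  have h1 := Cfsg.Agent.S1025.result (F := F) D hD r s hr hs hrs hneg t u
  have h2 : D.commWord F r s t u = [(l, -(c : F) * t * u), (l', -(c' : F) * t * u ^ 2)] := by
    show (D.commTerms r s).map _ = _
    rw [h]
    simp only [List.map_cons, List.map_nil, pow_one]
    congr 2
    · ring
    · congr 1
      congr 1
      ring
  rw [h2, wordMat_cons, wordMat_cons, wordMat_nil, mul_one] at h1
  exact Subtype.ext (Units.ext h1)

end Word

theorem hF : InList chevF4 := isType_F4.inList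

/-- the roots `b` with `(b, θ) > 0`, `b ≠ θ` -/
def S14 : Fin 14 → ℕ := ![24, 26, 29, 31, 32, 36, 38, 39, 40, 42, 43, 44, 45, 46]

/-- structure constants -/
def e14 : Fin 14 → ℤ := ![-1, -1, -2, 1, -1, -2, 2, -2, 2, 1, -1, 2, 1, 1]

theorem S14_lt : ∀ i, S14 i < chevF4.nroots := by decide +kernel

theorem S14_comm : ∀ i j, i ≠ j → S14 i ≠ S14 j ∧ S14 i ≠ chevF4.neg (S14 j) ∧
    chevF4.commTerms (S14 j) (S14 i) = if j = i.rev then [(47, e14 i, 1, 1)] else [] := by decide +kernel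

theorem S14_th : ∀ i, 47 ≠ S14 i ∧ 47 ≠ chevF4.neg (S14 i) ∧ chevF4.commTerms (S14 i) 47 = [] := by decide +kernel

theorem e14_cast {F : Type u} [Field F] (h2 : (2 : F) ≠ 0) (i : Fin 14) : (e14 i : F) ≠ 0 := by
  fin_cases i <;> simp [e14, h2]

/-- the coordinates of `V_J`, `J = {0, 1, 2}` -/
noncomputable def hh (F : Type u) [Field F] : H0 ↥(chevF4.group F) F (Fin 14) where
  x := fun i => xe hF (S14 i)
  z := xe hF 47
  x_add := fun i s t => xe_add hF _ s t
  z_add := fun s t => xe_add hF _ s t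
  x_z := fun i t a => (comm_nil hF (S14_lt i) (by decide +kernel) (S14_th i).1 (S14_th i).2.1 (S14_th i).2.2 t a).symm
  b := fun i j => if j = i.rev then -(e14 i : F) else 0
  x_comm := by
    intro i j s t
    rcases eq_or_ne i j with rfl | hij
    · have h : i ≠ i.rev := by
        revert i
        decide
      rw [if_neg h, zero_mul, zero_mul, xe_zero, mul_one, ← xe_add, ← xe_add, add_comm]
    · obtain ⟨h1, h2, h3⟩ := S14_comm i j hij
      split_ifs with h
      · rw [if_pos h] at h3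
        rw [comm_single hF (S14_lt j) (S14_lt i) h1 h2 h3 t s]
        congr 2
        ring
      · rw [if_neg h] at h3
        rw [comm_nil hF (S14_lt j) (S14_lt i) h1 h2 h3 t s, zero_mul, zero_mul, xe_zero, mul_one]

theorem xc_eq_xe {F : Type u} [Field F] {r : ℕ} (hr : r < 48) (a : F) :
    xc isType_F4 (vec chevF4 4 r) a = xe hF r a := Subtype.ext (coe_xc isType_F4 hr a)

theorem mem_XX_iff {F : Type u} [Field F] {r : ℕ} (hr : r < 48) (y : ↥(chevF4.group F)) :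
    y ∈ XX chevF4 4 F (vec chevF4 4 r) ↔ ∃ a, y = xc isType_F4 (vec chevF4 4 r) a := by
  rw [Subgroup.mem_subgroupOf, XV_vec isType_F4 F hr, mem_rootSubgroup_iff hF]
  constructor
  · rintro ⟨a, ha⟩
    exact ⟨a, Subtype.ext (by rw [coe_xc isType_F4 hr, ha])⟩
  · rintro ⟨a, rfl⟩
    exact ⟨a, coe_xc isType_F4 hr a⟩

/-- `V_J` in coordinates -/
theorem VJ_le_Qg (F : Type u) [Field F] : VJ CoxeterMatrix.F₄.toCoxeterSystem isType_F4.isCartan (XX chevF4 4 F)
    ({0, 1, 2} : Set (Fin 4)) ≤ (hh F).Qg := by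
  refine iSup_le ?_
  rintro ⟨b, hb, hb0, k, hk, hbk⟩
  obtain ⟨r, hr, rfl⟩ := (isRoot_iff isType_F4 _ b).1 hb
  have hk3 : k = 3 := by
    revert hk
    fin_cases k <;> simp
  subst hk3
  have h1 : r = 47 ∨ ∃ i, S14 i = r := by
    have key : ∀ r : Fin 48, 0 < vec chevF4 4 r.val 3 → r.val = 47 ∨ ∃ i, S14 i = r.val := by decide +kernel
    exact key ⟨r, hr⟩ hbk
  intro g hg
  obtain ⟨a, rfl⟩ := (mem_XX_iff hr g).1 hg
  rw [xc_eq_xe hr]
  rcases h1 with rfl | ⟨i, rfl⟩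
  · exact (hh F).z_mem a
  · exact (hh F).x_mem i a

theorem x_mem_VJ {F : Type u} [Field F] (i : Fin 14) (t : F) : (hh F).x i t ∈
    VJ CoxeterMatrix.F₄.toCoxeterSystem isType_F4.isCartan (XX chevF4 4 F) ({0, 1, 2} : Set (Fin 4)) := by
  have hS : vec chevF4 4 (S14 i) ∈ NotJ CoxeterMatrix.F₄.toCoxeterSystem isType_F4.isCartan ({0, 1, 2} : Set (Fin 4)) := by
    refine ⟨isRoot_vec isType_F4 _ (S14_lt i), ?_, 3, by simp, ?_⟩
    · intro j
      revert i j
      decide +kernel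
    · revert i
      decide +kernel
  refine (le_iSup (fun z : NotJ CoxeterMatrix.F₄.toCoxeterSystem isType_F4.isCartan ({0, 1, 2} : Set (Fin 4)) =>
    XX chevF4 4 F z.1) ⟨_, hS⟩) ?_
  rw [mem_XX_iff (S14_lt i)]
  exact ⟨t, (xc_eq_xe (S14_lt i) t).symm⟩

/-- the indices `i` such that `S14 i - a₂` is a root -/
def A14 (i : Fin 14) : Prop := i = 1 ∨ i = 4 ∨ i = 7 ∨ i = 10 ∨ i = 13

instance : DecidablePred A14 := fun i => by unfold A14; infer_instance

theorem B14 : ∀ i, ¬ A14 i → S14 i.rev ≠ 25 ∧ S14 i.rev ≠ chevF4.neg 25 ∧ chevF4.commTerms 25 (S14 i.rev) = [] := by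
  decide +kernel

theorem stepA {F : Type u} [Field F] {k i : Fin 14} {c : ℤ} (h25 : S14 k ≠ 25 ∧ S14 k ≠ chevF4.neg 25)
    (h : chevF4.commTerms 25 (S14 k) = [(S14 i, c, 1, 1)] ∨ ∃ c', chevF4.commTerms 25 (S14 k) = [(S14 i, c, 1, 1), (47, c', 1, 2)])
    (hc : c * c = 1) {t0 : F} (ht : t0 ≠ 0) :
    ∃ k : Fin 14, ∃ e : F, e ≠ 0 ∧ ∀ t, ∃ a, (hh F).x k t * xe hF 25 t0 * ((hh F).x k t)⁻¹ =
      xe hF 25 t0 * (hh F).x i (e * t) * (hh F).z a := by
  refine ⟨k, -(c : F) * t0, mul_ne_zero (neg_ne_zero.2 (cast_ne_zero hc)) ht, fun t => ?_⟩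
  have h1 : ∃ a, (hh F).x k t * xe hF 25 t0 = xe hF 25 t0 * (hh F).x k t * ((hh F).x i (-(c : F) * t0 * t) * (hh F).z a) := by
    rcases h with h | ⟨c', h⟩
    · refine ⟨0, ?_⟩
      rw [(hh F).z_zero, mul_one]
      exact comm_single hF (by decide +kernel) (S14_lt k) h25.1 h25.2 h t0 t
    · exact ⟨_, comm_two hF (by decide +kernel) (S14_lt k) h25.1 h25.2 h t0 t⟩
  obtain ⟨a, ha⟩ := h1
  refine ⟨(hh F).b k i * t * (-(c : F) * t0 * t) + a, ?_⟩
  rw [ha, mul_assoc (xe hF 25 t0), ← mul_assoc ((hh F).x k t), (hh F).x_comm, mul_assoc _ _ ((hh F).z a), ← (hh F).z_add,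
    mul_assoc ((hh F).x i _), (hh F).x_z, ← mul_assoc, ← mul_assoc, mul_inv_cancel_right]

/-- **(U3)** -/
theorem uThree {K : Type u} [Field K] (h2 : (2 : K) ≠ 0) {v : ↥(chevF4.group K)}
    (hv : v ∈ VJ CoxeterMatrix.F₄.toCoxeterSystem isType_F4.isCartan (XX chevF4 4 K) ({0, 1, 2} : Set (Fin 4)))
    {c : K} (hc : c ≠ 0) :
    (∃ y ∈ VJ CoxeterMatrix.F₄.toCoxeterSystem isType_F4.isCartan (XX chevF4 4 K) ({0, 1, 2} : Set (Fin 4)),
      ∃ d : K, d ≠ 0 ∧ y * (xc isType_F4 (vec chevF4 4 25) c * v) * y⁻¹ =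
        xc isType_F4 (vec chevF4 4 25) c * v * xc isType_F4 (vec chevF4 4 47) d) ∨
    ∃ (h : ↥(chevF4.group K)) (d : K), h * (xc isType_F4 (vec chevF4 4 25) c * v) * h⁻¹ =
      xc isType_F4 (vec chevF4 4 25) c * xc isType_F4 (vec chevF4 4 47) d := by
  simp only [xc_eq_xe (show 25 < 48 by norm_num), xc_eq_xe (show 47 < 48 by norm_num)]
  have h25 : 25 < chevF4.nroots := by decide +kernel
  rcases (hh K).engine (x0 := xe hF 25 c) A14
    (fun a => (comm_nil hF h25 (show 47 < chevF4.nroots by decide +kernel) (by decide +kernel) (by decide +kernel)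
      (by decide +kernel) c a).symm)
    (fun i hi => ⟨i.rev, fun t => comm_nil hF h25 (S14_lt _) (B14 i hi).1 (B14 i hi).2.1 (B14 i hi).2.2 c t, by
      show (if i = i.rev.rev then -(e14 i.rev : K) else 0) ≠ 0
      rw [if_pos (Fin.rev_rev i).symm]
      exact neg_ne_zero.2 (e14_cast h2 _), fun j hj => by
      show (if j = i.rev.rev then -(e14 i.rev : K) else 0) = 0
      rw [if_neg (by rwa [Fin.rev_rev])]⟩)
    (fun i hi => by
      rcases hi with rfl | rfl | rfl | rfl | rfl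
      · exact stepA (k := 0) (c := -1) (by decide +kernel) (Or.inl (by decide +kernel)) (by norm_num) hc
      · exact stepA (k := 3) (c := 1) (by decide +kernel) (Or.inl (by decide +kernel)) (by norm_num) hc
      · exact stepA (k := 6) (c := 1) (by decide +kernel) (Or.inr ⟨1, by decide +kernel⟩) (by norm_num) hc
      · exact stepA (k := 9) (c := 1) (by decide +kernel) (Or.inl (by decide +kernel)) (by norm_num) hc
      · exact stepA (k := 12) (c := 1) (by decide +kernel) (Or.inl (by decide +kernel)) (by norm_num) hc)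
    (VJ_le_Qg K hv) with ⟨k, t, d, hd, h⟩ | ⟨h, -, d, hh⟩
  · exact Or.inl ⟨_, x_mem_VJ k t, d, hd, h⟩
  · exact Or.inr ⟨h, d, hh⟩

end Cfsg.Agent.H934.FF
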