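import Cfsg.Agent.H934.FF.XSpec
import Cfsg.Agent.H700.F43.Kap

/-!
# S2465, `F₄(3)`: the radical `QQ` of `PP` in coordinates (helper934)

helper700's subgroups `QQ = Gp rQ ≤ PP = Gp (rQ ++ rC)` of `F₄(3)`, `z₀ = xp 47`, and his map `kap`.

* `QQ_eq_Qg`, `QQ_eq_VJ` : `QQ = V_J`, `J = {0, 1, 2}`; `card_QQ`;
* `kap_X` : `kap (X v * z a) j = eta j * v (sg14 j)`; `kap_ker`, `kap_surj`;
* `conj_mem`, `central` : `PP` normalises `QQ` and centralises `xp 47`;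
* `xs_PP` : `XS 3 (QQ.subgroupOf PP) ⟨xp 47, _⟩`.
-/

set_option autoImplicit false
set_option linter.unusedSectionVars false

namespace Cfsg.Agent.H934.FF.QV

open CoxeterSystem Cfsg.Agent.ChevalleyStructure.CoxeterGeom Cfsg.Agent.Tits.Roots Cfsg.Agent.Tits.Core
  Cfsg.Agent.Nodes.Reps Cfsg.Agent.Nodes.BNOf Cfsg.Agent.Nodes.RGDLib Cfsg.Agent.Nodes.Bruhat
  Cfsg.Agent.Nodes.OppDec Cfsg.Agent.Nodes.LeviDec Cfsg.Agent.Nodes.StabComb
open Cfsg.Lie Cfsg.Agent.ChevalleyStructure Cfsg.Agent.ChevalleyStructure.Elts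
  Cfsg.Agent.ChevalleyStructure.CoxeterGeomTypes
  Cfsg.Agent.Nodes.RGDChev Cfsg.Agent.KFacts.RgdChevCoord Cfsg.Agent.H934.HeisChev Cfsg.Agent.H537.Pw
open Cfsg.Agent.H323.Pw Cfsg.Agent.H934.FF
open Cfsg.Agent.H700.F43 (Gm xp Gp rQ rC QQ PP MM V14 ord14 eta kap_mul kap_xp kap_one xp_mem QQ_le)

/-- the coordinates -/
noncomputable abbrev HH : H0 Gm (ZMod 3) (Fin 14) := hh (ZMod 3)

theorem xp_eq {r : ℕ} (hr : r < 48) : xp r = xe hF r (1 : ZMod 3) := by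
  show xc isType_F4 (vec chevF4 4 r) (1 : ZMod 3) = _
  exact xc_eq_xe hr 1

theorem xe_pow (r : ℕ) (n : ℕ) : (xe hF r (1 : ZMod 3)) ^ n = xe hF r (n : ZMod 3) := by
  induction n with
  | zero => rw [pow_zero, Nat.cast_zero, xe_zero]
  | succ n ih => rw [pow_succ, ih, ← xe_add, Nat.cast_succ]

theorem xe_eq_pow (r : ℕ) (t : ZMod 3) : xe hF r t = (xe hF r (1 : ZMod 3)) ^ t.val := by
  rw [xe_pow, ZMod.natCast_zmod_val]

theorem S14_mem : ∀ i, S14 i ∈ rQ := by decide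

theorem x_mem_QQ (i : Fin 14) (t : ZMod 3) : HH.x i t ∈ QQ := by
  show xe hF (S14 i) t ∈ QQ
  rw [xe_eq_pow, ← xp_eq (S14_lt i)]
  exact pow_mem (xp_mem (S14_mem i)) _

theorem z_eq_comm (a : ZMod 3) : HH.z a = (HH.x 13 1 * HH.x 0 a)⁻¹ * (HH.x 0 a * HH.x 13 1) := by
  have h1 := HH.x_comm 0 13 a 1
  have h2 : HH.b 0 13 = 1 := by
    show (if (13 : Fin 14) = Fin.rev 0 then -(e14 0 : ZMod 3) else 0) = 1
    decide
  rw [h2, one_mul, mul_one] at h1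
  rw [h1]
  group

theorem z_mem_QQ (a : ZMod 3) : HH.z a ∈ QQ := by
  rw [z_eq_comm]
  exact mul_mem (inv_mem (mul_mem (x_mem_QQ _ _) (x_mem_QQ _ _))) (mul_mem (x_mem_QQ _ _) (x_mem_QQ _ _))

theorem X_mem_QQ (v : Fin 14 → ZMod 3) : HH.X v ∈ QQ := by
  unfold H0.X H0.P
  refine Subgroup.list_prod_mem _ ?_
  intro g hg
  rw [List.mem_map] at hg
  obtain ⟨i, -, rfl⟩ := hg
  exact x_mem_QQ i _

theorem exists_S14 : ∀ r ∈ rQ, ∃ i, S14 i = r := by decide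

/-- `QQ` in coordinates -/
theorem QQ_eq_Qg : QQ = HH.Qg := by
  apply le_antisymm
  · refine (Subgroup.closure_le _).2 ?_
    rintro _ ⟨r, hr, rfl⟩
    obtain ⟨i, rfl⟩ := exists_S14 r hr
    rw [xp_eq (S14_lt i)]
    exact HH.x_mem i 1
  · rintro _ ⟨v, a, rfl⟩
    exact mul_mem (X_mem_QQ v) (z_mem_QQ a)

theorem QQ_eq_VJ : QQ = VJ CoxeterMatrix.F₄.toCoxeterSystem isType_F4.isCartan (XX chevF4 4 (ZMod 3))
    ({0, 1, 2} : Set (Fin 4)) := by rw [QQ_eq_Qg, VJ_eq_Qg]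

theorem card_QQ : Nat.card ↥QQ = 3 ^ 15 := by
  rw [QQ_eq_Qg, card_Qg two_ne, Nat.card_eq_fintype_card, ZMod.card]

theorem xp47_mem : xp 47 ∈ QQ := by
  rw [xp_eq (by norm_num)]
  exact z_mem_QQ 1

theorem orderOf_xp47 : orderOf (xp 47) = 3 := by
  rw [xp_eq (by norm_num)]
  exact orderOf_z

/-! ### the map `kap` -/

/-- `ord14 j = S14 (sg14 j)` -/
def sg14 : Fin 14 → Fin 14 := ![0, 9, 3, 1, 2, 5, 6, 4, 10, 12, 11, 8, 7, 13]

theorem ord14_eq : ∀ j, ord14 j = S14 (sg14 j) := by decide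

theorem sg14_bij : Function.Bijective sg14 := by
  have h : Function.Injective sg14 := by
    intro i j
    revert i j
    decide
  exact Finite.injective_iff_bijective.1 h

/-- helper700's coordinates as a homomorphism -/
noncomputable def kh : ↥QQ →* Multiplicative V14 where
  toFun g := Multiplicative.ofAdd (Cfsg.Agent.H700.F43.kap g)
  map_one' := congrArg Multiplicative.ofAdd kap_one
  map_mul' g h := congrArg Multiplicative.ofAdd (kap_mul g.2 h.2)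

theorem kap_z (a : ZMod 3) : Cfsg.Agent.H700.F43.kap (HH.z a) = 0 := by
  have h0 : (⟨HH.z a, z_mem_QQ a⟩ : ↥QQ) = ((⟨HH.x 13 1, x_mem_QQ _ _⟩ : ↥QQ) * ⟨HH.x 0 a, x_mem_QQ _ _⟩)⁻¹ *
      ((⟨HH.x 0 a, x_mem_QQ _ _⟩ : ↥QQ) * ⟨HH.x 13 1, x_mem_QQ _ _⟩) := Subtype.ext (z_eq_comm a)
  have h1 := congrArg kh h0
  rw [map_mul, map_inv, map_mul, map_mul, mul_comm (kh ⟨HH.x 13 1, _⟩), inv_mul_cancel] at h1
  exact h1

theorem kap_x (j : Fin 14) (t : ZMod 3) : Cfsg.Agent.H700.F43.kap (HH.x (sg14 j) t) = Pi.single j (eta j * t) := by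
  have h1 : HH.x (sg14 j) t = (xp (ord14 j)) ^ t.val := by
    show xe hF (S14 (sg14 j)) t = _
    rw [xe_eq_pow, ord14_eq, xp_eq (S14_lt _)]
  have h2 : xp (ord14 j) ∈ QQ := by
    rw [ord14_eq]
    exact xp_mem (S14_mem _)
  have h3 := map_pow kh (⟨xp (ord14 j), h2⟩ : ↥QQ) t.val
  have h4 : kh (⟨xp (ord14 j), h2⟩ : ↥QQ) = Multiplicative.ofAdd (Pi.single j (eta j)) :=
    congrArg Multiplicative.ofAdd (kap_xp j)
  rw [h4, ← ofAdd_nsmul] at h3
  rw [h1]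
  refine (Multiplicative.ofAdd.injective (show Multiplicative.ofAdd (Cfsg.Agent.H700.F43.kap (xp (ord14 j) ^ t.val)) =
    Multiplicative.ofAdd (t.val • (Pi.single j (eta j) : V14)) from h3)).trans ?_
  rw [← Pi.single_smul, nsmul_eq_mul, ZMod.natCast_zmod_val, mul_comm]

/-- **`kap` in coordinates** -/
theorem kap_X (v : Fin 14 → ZMod 3) (a : ZMod 3) (j : Fin 14) :
    Cfsg.Agent.H700.F43.kap (HH.X v * HH.z a) j = eta j * v (sg14 j) := by
  have key : ∀ v : Fin 14 → ZMod 3, Cfsg.Agent.H700.F43.kap (HH.X v) = fun j => eta j * v (sg14 j) := by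
    intro v
    refine H0.pi_ind (p := fun v => Cfsg.Agent.H700.F43.kap (HH.X v) = fun j => eta j * v (sg14 j)) ?_ ?_ ?_ v
    · rw [HH.X_zero, kap_one]
      funext j
      simp
    · intro v w hv hw
      obtain ⟨c, hc⟩ := HH.X_add v w
      rw [hc, kap_mul (mul_mem (X_mem_QQ v) (X_mem_QQ w)) (z_mem_QQ c), kap_mul (X_mem_QQ v) (X_mem_QQ w), hv, hw, kap_z]
      funext j
      simp [mul_add]
    · intro i t
      obtain ⟨k, rfl⟩ := sg14_bij.2 i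
      rw [HH.X_single, kap_x]
      funext j
      by_cases h : j = k
      · subst h
        rw [Pi.single_eq_same, Pi.single_eq_same]
      · rw [Pi.single_eq_of_ne h, Pi.single_eq_of_ne (fun h' => h (sg14_bij.1 h')), mul_zero]
  rw [kap_mul (X_mem_QQ v) (z_mem_QQ a), kap_z, key, add_zero]

theorem eta_sq : ∀ j, eta j * eta j = 1 := by decide

/-- the kernel of `kap` -/
theorem kap_ker {g : Gm} (hg : g ∈ QQ) (h : Cfsg.Agent.H700.F43.kap g = 0) : g ∈ Subgroup.zpowers (xp 47) := by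
  rw [QQ_eq_Qg] at hg
  obtain ⟨v, a, rfl⟩ := hg
  have hv : v = 0 := by
    funext i
    obtain ⟨j, rfl⟩ := sg14_bij.2 i
    have h1 := congrFun h j
    rw [kap_X] at h1
    have h2 : eta j * (eta j * v (sg14 j)) = 0 := by
      rw [h1]
      exact mul_zero _
    rwa [← mul_assoc, eta_sq, one_mul] at h2
  rw [hv, HH.X_zero, one_mul, xp_eq (by norm_num)]
  exact z_mem_zpowers a

theorem kap_surj (w : V14) : ∃ g ∈ QQ, Cfsg.Agent.H700.F43.kap g = w := by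
  refine ⟨HH.X (fun i => eta ((Equiv.ofBijective _ sg14_bij).symm i) * w ((Equiv.ofBijective _ sg14_bij).symm i)) * HH.z 0,
    mul_mem (X_mem_QQ _) (z_mem_QQ _), ?_⟩
  funext j
  rw [kap_X]
  have h1 : (Equiv.ofBijective _ sg14_bij).symm (sg14 j) = j := (Equiv.ofBijective _ sg14_bij).symm_apply_apply j
  rw [h1, ← mul_assoc, eta_sq, one_mul]

/-! ### `PP` -/

theorem rC_R18 : ∀ r ∈ rC, ∃ k, R18 k = r := by decide

theorem conj_gen {r : ℕ} (hr : r ∈ rQ ++ rC) (t : ZMod 3) {x : Gm} (hx : x ∈ HH.Qg) :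
    xe hF r t * x * (xe hF r t)⁻¹ ∈ HH.Qg := by
  rcases List.mem_append.1 hr with h | h
  · obtain ⟨i, rfl⟩ := exists_S14 r h
    exact mul_mem (mul_mem (HH.x_mem i t) hx) (inv_mem (HH.x_mem i t))
  · obtain ⟨k, rfl⟩ := rC_R18 r h
    obtain ⟨v, a, rfl⟩ := hx
    obtain ⟨b, hb⟩ := act k t v
    have hz : xe hF (R18 k) t * HH.z a * (xe hF (R18 k) t)⁻¹ = HH.z a := by
      obtain ⟨h3, h4, h5⟩ := R18_th k
      rw [mul_inv_eq_iff_eq_mul]
      exact (comm_nil hF (R18_lt k) (by decide +kernel) h3 h4 h5 t a).symm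
    have e : xe hF (R18 k) t * (HH.X v * HH.z a) * (xe hF (R18 k) t)⁻¹ =
        (xe hF (R18 k) t * HH.X v * (xe hF (R18 k) t)⁻¹) * (xe hF (R18 k) t * HH.z a * (xe hF (R18 k) t)⁻¹) := by group
    rw [e, hb, hz]
    exact mul_mem (mul_mem ⟨_, 0, by rw [HH.z_zero, mul_one]⟩ (HH.z_mem b)) (HH.z_mem a)

theorem lt48 : ∀ r ∈ rQ ++ rC, r < 48 := by decide

theorem xp_inv {r : ℕ} (hr : r < 48) : (xp r)⁻¹ = xe hF r (-1 : ZMod 3) := by
  rw [xp_eq hr, xe_neg]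

/-- `PP` normalises `QQ` -/
theorem conj_mem {g : Gm} (hg : g ∈ PP) {x : Gm} (hx : x ∈ QQ) : g * x * g⁻¹ ∈ QQ := by
  rw [QQ_eq_Qg] at hx ⊢
  have key : ∀ g ∈ PP, (∀ x ∈ HH.Qg, g * x * g⁻¹ ∈ HH.Qg) ∧ ∀ x ∈ HH.Qg, g⁻¹ * x * g ∈ HH.Qg := by
    intro g hg
    refine Subgroup.closure_induction (p := fun g _ => (∀ x ∈ HH.Qg, g * x * g⁻¹ ∈ HH.Qg) ∧
      ∀ x ∈ HH.Qg, g⁻¹ * x * g ∈ HH.Qg) ?_ ?_ ?_ ?_ hg
    · rintro _ ⟨r, hr, rfl⟩
      constructor
      · intro x hx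
        rw [xp_eq (lt48 r hr)]
        exact conj_gen hr 1 hx
      · intro x hx
        have h1 := conj_gen hr (-1) hx
        rw [← xp_inv (lt48 r hr), inv_inv] at h1
        exact h1
    · exact ⟨fun x hx => by rwa [one_mul, inv_one, mul_one], fun x hx => by rwa [inv_one, one_mul, mul_one]⟩
    · rintro a b - - ⟨h1, h2⟩ ⟨h3, h4⟩
      constructor
      · intro x hx
        have := h1 _ (h3 x hx)
        rwa [show a * (b * x * b⁻¹) * a⁻¹ = a * b * x * (a * b)⁻¹ by group] at this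
      · intro x hx
        have := h4 _ (h2 x hx)
        rwa [show b⁻¹ * (a⁻¹ * x * a) * b = (a * b)⁻¹ * x * (a * b) by group] at this
    · rintro a - ⟨h1, h2⟩
      exact ⟨fun x hx => by rw [inv_inv]; exact h2 x hx, fun x hx => by rw [inv_inv]; exact h1 x hx⟩
  exact (key g hg).1 x hx

/-- `PP` centralises `xp 47` -/
theorem central {g : Gm} (hg : g ∈ PP) : g * xp 47 = xp 47 * g := by
  have h47 : xp 47 = HH.z 1 := xp_eq (by norm_num)
  have key : PP ≤ Subgroup.centralizer {xp 47} := by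
    refine (Subgroup.closure_le _).2 ?_
    rintro _ ⟨r, hr, rfl⟩
    rw [SetLike.mem_coe, Subgroup.mem_centralizer_singleton_iff, h47, xp_eq (lt48 r hr)]
    rcases List.mem_append.1 hr with h | h
    · obtain ⟨i, rfl⟩ := exists_S14 r h
      exact HH.x_z i 1 1
    · obtain ⟨k, rfl⟩ := rC_R18 r h
      obtain ⟨h3, h4, h5⟩ := R18_th k
      exact (comm_nil hF (R18_lt k) (by decide +kernel) h3 h4 h5 1 1).symm
  have h1 : g ∈ Subgroup.centralizer {xp 47} := key hg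
  rw [Subgroup.mem_centralizer_singleton_iff] at h1
  exact h1

/-- **`XS`** -/
theorem xs_PP : XS 3 (QQ.subgroupOf PP) (⟨xp 47, QQ_le xp47_mem⟩ : ↥PP) := by
  have h47 : xp 47 = xe hF 47 (1 : ZMod 3) := xp_eq (by norm_num)
  have h1 := xs_gen (H := PP) (by rw [← QQ_eq_Qg]; exact QQ_le)
    (fun g hg x hx => by
      rw [← QQ_eq_Qg] at hx ⊢
      exact conj_mem hg hx)
    (fun g hg => by
      rw [← h47]
      exact central hg)
  have h2 : (⟨xp 47, QQ_le xp47_mem⟩ : ↥PP) = ⟨xe hF 47 1, (by rw [← h47]; exact QQ_le xp47_mem)⟩ := Subtype.ext h47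
  rw [h2, QQ_eq_Qg]
  exact h1

end Cfsg.Agent.H934.FF.QV
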