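import Cfsg.Agent.H537.Pw.WCFour

/-!
# S2465, `F₄(3)`, piece E1: `r`-elements and the radical of a maximal parabolic subgroup (helper934)

`i`, `j` nodes with `M i j = 3`. An element of `U` with a nontrivial `α_i`-part has a conjugate (under the Levi subgroup
of `{i, j}`) in `U` with a nontrivial `α_j`-part. Hence (with helper537's theorem) every nontrivial `r`-element has a
conjugate in `U` outside `V_J` for `J ∌ i`, `J ∪ {i} = univ`: in `F₄(q)` outside the radical of the parabolic subgroup of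
type `C₃`.
-/

set_option autoImplicit false
set_option linter.unusedSectionVars false

namespace Cfsg.Agent.H934.FF

open CoxeterSystem Cfsg.Agent.ChevalleyStructure.CoxeterGeom Cfsg.Agent.Tits.Roots Cfsg.Agent.Tits.Core
  Cfsg.Agent.Tits.Exchange Cfsg.Agent.Nodes.Reps Cfsg.Agent.Nodes.BNOf Cfsg.Agent.Nodes.StabComb
  Cfsg.Agent.Nodes.Bruhat Cfsg.Agent.Nodes.OppDec Cfsg.Agent.Nodes.LeviDec Cfsg.Agent.H53.HC
open scoped Pointwise commutatorElement

universe u

variable {I W : Type*} {Y : Type u} [Fintype I] [DecidableEq I] [Group W] [Group Y] {M : CoxeterMatrix I}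
  {cs : CoxeterSystem M W} {A : I → I → ℤ} {h : IsCartan M A} {r : ℕ} {T : Subgroup Y} {n : I → Y}
  {X : (I → ℤ) → Subgroup Y}

/-! ### roots of the subsystem `A₂` -/

omit [Group Y] in
theorem pairing_two {i j : I} (hij : i ≠ j) {x : I → ℤ} (hx : ∀ k, k ∉ ({i, j} : Set I) → x k = 0) :
    pairing A i x = A i i * x i + A i j * x j := by
  unfold pairing
  refine Finset.sum_eq_add i j hij (fun k _ hk => ?_) (fun hi => absurd (Finset.mem_univ _) hi)
    (fun hj => absurd (Finset.mem_univ _) hj)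
  rw [hx k (by simp [hk.1, hk.2]), mul_zero]

theorem rep_sr_sr {i j : I} (hij : i ≠ j) (h1 : A i j = -1) : rep cs h (cs.simple i) (sr j) = sr i + sr j := by
  have h2 : pairing A i (sr j) = -1 := by
    rw [pairing_two (A := A) hij (x := sr j) (fun k hk => sr_ne (by rintro rfl; exact hk (by simp)))]
    rw [sr_ne (Ne.symm hij).symm, sr_self, h1]
    ring
  rw [rep_simple_eq, h2]
  funext k
  simp only [Pi.sub_apply, Pi.add_apply, Pi.smul_apply, smul_eq_mul]
  ring

theorem isRoot_add {i j : I} (hij : i ≠ j) (h1 : A i j = -1) : IsRoot cs h (sr i + sr j) := by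
  rw [← rep_sr_sr (cs := cs) (h := h) hij h1]
  exact (isRoot_sr cs h j).act _

theorem posJ_A2 {i j : I} (hij : i ≠ j) (h1 : A i j = -1) (h2 : A j i = -1) {x : I → ℤ}
    (hx : x ∈ PosJ cs h ({i, j} : Set I)) : x = sr i ∨ x = sr j ∨ x = sr i + sr j := by
  obtain ⟨hr, h0, hz⟩ := hx
  by_cases hi : x = sr i
  · exact Or.inl hi
  by_cases hj : x = sr j
  · exact Or.inr (Or.inl hj)
  right; right
  have e1 := hr.simple_nonneg h0 i hi i
  have e2 := hr.simple_nonneg h0 j hj j
  rw [rep_simple_apply_self, pairing_two (A := A) hij hz, h.diag, h1] at e1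
  rw [rep_simple_apply_self, pairing_two (A := A) (Ne.symm hij) (fun k hk => hz k (by
    intro hk'; exact hk (by rcases hk' with rfl | rfl <;> simp))), h.diag, h2] at e2
  simp only [Pi.zero_apply] at e1 e2
  have e3 : x i = x j := by omega
  have h5 := (hr.act (cs.simple i)).eq_sr (hr.simple_nonneg h0 i hi) j (fun k hk => by
    by_cases hki : k = i
    · subst hki
      rw [rep_simple_apply_self, pairing_two (A := A) hij hz, h.diag, h1]
      omega
    · rw [rep_simple_apply cs h i x k hki]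
      exact hz k (by simp [hk, hki]))
  have h6 : rep cs h (cs.simple i) (rep cs h (cs.simple i) x) = x := by
    rw [← rep_mul_apply, cs.simple_mul_simple_self, map_one, Module.End.one_apply]
  rw [← h6, h5, rep_sr_sr hij h1]

/-! ### the groups -/

section

variable (R : RGD cs h r T n X)

include R

theorem X_le_VJ {J : Set I} {x : I → ℤ} (hx : IsRoot cs h x) (h0 : 0 ≤ x) {k : I} (hk : k ∉ J) (hk0 : 0 < x k) :
    X x ≤ VJ cs h X J := RGD.le_Sup ⟨hx, h0, k, hk, hk0⟩

theorem eq_one_of_mem_VJ [Finite W] {j : I} {x : Y} (hx : x ∈ X (sr j)) (hv : x ∈ VJ cs h X {j}) : x = 1 := by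
  have h1 : x ∈ UJ cs h X {j} ⊓ VJ cs h X {j} := ⟨RGD.le_Sup (sr_mem_PosJ (Set.mem_singleton j)) hx, hv⟩
  rw [UJ_inf_VJ R] at h1
  exact Subgroup.mem_bot.1 h1

/-- an element of `X α_j` commuting with a nontrivial element of `X α_i` is trivial -/
theorem eq_one_of_commute [Finite W] {i j : I} (hij : i ≠ j) (h1 : A i j = -1) {a : Y} (ha : a ∈ X (sr i))
    (ha1 : a ≠ 1) {d : Y} (hd : d ∈ X (sr j)) (hc : d * a = a * d) : d = 1 := by
  have hn := rp_simple cs R.nsys i
  -- `a` moved to the negative root group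
  have h2 : (n i)⁻¹ * a * n i ∈ X (-sr i) := by
    have := R.conj_mem' hn (isRoot_sr cs h i) ha
    rwa [cs.inv_simple, rep_simple_sr] at this
  have h3 : (n i)⁻¹ * a * n i ≠ 1 := by
    intro h4
    apply ha1
    have h5 : a = n i * ((n i)⁻¹ * a * n i) * (n i)⁻¹ := by group
    rw [h5, h4]; group
  obtain ⟨b, hb, t, ht, c, hc', e⟩ := R.rk1 i _ h2 h3
  have hb' : n i * b * (n i)⁻¹ ∈ X (-sr i) := by
    have := R.conj_mem hn (isRoot_sr cs h i) hb
    rwa [rep_simple_sr] at this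
  have hc'' : n i * c * (n i)⁻¹ ∈ X (-sr i) := by
    have := R.conj_mem hn (isRoot_sr cs h i) hc'
    rwa [rep_simple_sr] at this
  -- `d` commutes with `X (-α_i)`
  have hcom : ∀ y ∈ X (-sr i), d * y = y * d := by
    intro y hy
    have h6 := R.comm (-sr i) (sr j) (isRoot_sr cs h i).neg (isRoot_sr cs h j)
      (fun e => by
        have := congrFun e j
        rw [Pi.neg_apply, sr_ne (Ne.symm hij), sr_self] at this
        omega)
      (fun e => by
        have := congrFun e j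
        rw [Pi.neg_apply, Pi.neg_apply, sr_ne (Ne.symm hij), sr_self] at this
        omega) y hy d hd
    have h7 : Nodes.Reps.btw cs h X (-sr i) (sr j) = ⊥ := by
      unfold Cfsg.Agent.Nodes.Reps.btw
      rw [eq_bot_iff]
      refine iSup_le ?_
      rintro ⟨z, hz, m, α, β, hm, hα, hβ, e⟩
      exfalso
      have e1 := congrFun e i
      have e2 := congrFun e j
      simp only [Pi.smul_apply, Pi.add_apply, Pi.neg_apply, smul_eq_mul, sr_self, sr_ne hij, sr_ne (Ne.symm hij)] at e1 e2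
      rcases hz.pos_or_neg with h8 | h8
      · have := h8 i
        simp only [Pi.zero_apply] at this
        nlinarith
      · have := h8 j
        simp only [Pi.zero_apply] at this
        nlinarith
    rw [h7, Subgroup.mem_bot, commutatorElement_eq_one_iff_mul_comm] at h6
    exact h6.symm
  -- the representative `t' n i`
  set k := n i * t * (n i)⁻¹ * n i with hk
  have hkr : Rp cs R.nsys (cs.simple i) k := by
    have h8 : k = n i * t := by rw [hk]; group
    rw [h8]
    have := hn.mul (rp_of_mem (cs := cs) (hN := R.nsys) ht)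
    rwa [mul_one] at this
  have hka : k = (n i * b * (n i)⁻¹)⁻¹ * a * (n i * c * (n i)⁻¹)⁻¹ := by
    have h9 : a = n i * (b * t * n i * c) * (n i)⁻¹ := by rw [← e]; group
    rw [h9, hk]; group
  have hdk : d * k = k * d := by
    have k1 : Commute d (n i * b * (n i)⁻¹) := hcom _ hb'
    have k2 : Commute d (n i * c * (n i)⁻¹) := hcom _ hc''
    have k3 : Commute d a := hc
    rw [hka]
    exact ((k1.inv_right.mul_right k3).mul_right k2.inv_right).eq
  have h10 := R.conj_mem hkr (isRoot_sr cs h j) hd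
  rw [rep_sr_sr hij h1, ← hdk, mul_assoc, mul_inv_cancel, mul_one] at h10
  refine eq_one_of_mem_VJ R hd (X_le_VJ R (isRoot_add hij h1) (add_nonneg (sr_nonneg i) (sr_nonneg j))
    (J := {j}) (k := i) (by simpa using hij) ?_ h10)
  rw [Pi.add_apply, sr_self, sr_ne hij]
  norm_num

theorem btw_A2 {i j : I} (hij : i ≠ j) (h1 : A i j = -1) (h2 : A j i = -1) :
    Nodes.Reps.btw cs h X (sr j) (sr i) ≤ X (sr i + sr j) := by
  unfold Cfsg.Agent.Nodes.Reps.btw
  refine iSup_le ?_
  rintro ⟨z, hz⟩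
  have hpos : z ∈ PosJ cs h ({i, j} : Set I) := by
    refine ⟨hz.1, btwn_nonneg hz (sr_nonneg j) (sr_nonneg i), fun k hk => ?_⟩
    exact btwn_apply_zero hz (sr_ne (by rintro rfl; exact hk (by simp))) (sr_ne (by rintro rfl; exact hk (by simp)))
  rcases posJ_A2 hij h1 h2 hpos with rfl | rfl | rfl
  · exact absurd rfl (btwn_ne_sr hz.symm (sr_nonneg i) (isRoot_sr cs h j) (sr_nonneg j)
      (fun e => hij (by
        by_contra
        have := congrFun e j
        rw [sr_self, sr_ne (Ne.symm hij)] at this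
        omega)))
  · exact absurd rfl (btwn_ne_sr hz (sr_nonneg j) (isRoot_sr cs h i) (sr_nonneg i)
      (fun e => hij (by
        by_contra
        have := congrFun e i
        rw [sr_self, sr_ne hij] at this
        omega)))
  · exact le_refl _

/-- the commutator with a nontrivial element of `X α_i` maps `X α_j` onto `X (α_i + α_j)` -/
theorem exists_comm_eq [Finite Y] [Finite W] {i j : I} (hij : i ≠ j) (h1 : A i j = -1) (h2 : A j i = -1) {a : Y}
    (ha : a ∈ X (sr i)) (ha1 : a ≠ 1) {z : Y} (hz : z ∈ X (sr i + sr j)) : ∃ c ∈ X (sr j), ⁅c, a⁆ = z := by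
  have hne : sr j ≠ sr i := fun e => hij (by
    by_contra
    have := congrFun e i
    rw [sr_self, sr_ne hij] at this
    omega)
  have hne' : sr j ≠ -sr i := fun e => by
    have := congrFun e j
    rw [Pi.neg_apply, sr_self, sr_ne (Ne.symm hij)] at this
    omega
  let f : X (sr j) → X (sr i + sr j) := fun c => ⟨⁅(c : Y), a⁆,
    btw_A2 R hij h1 h2 (R.comm _ _ (isRoot_sr cs h j) (isRoot_sr cs h i) hne hne' c c.2 a ha)⟩
  have hinj : Function.Injective f := by
    intro c c' e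
    have e1 : ⁅(c : Y), a⁆ = ⁅(c' : Y), a⁆ := congrArg Subtype.val e
    rw [commutatorElement_def, commutatorElement_def, mul_left_inj] at e1
    have e2 : ((c' : Y)⁻¹ * c) * a = a * ((c' : Y)⁻¹ * c) := by
      have e3 : (c' : Y)⁻¹ * ((c : Y) * a * (c : Y)⁻¹) * c = (c' : Y)⁻¹ * ((c' : Y) * a * (c' : Y)⁻¹) * c := by rw [e1]
      calc ((c' : Y)⁻¹ * c) * a = (c' : Y)⁻¹ * ((c : Y) * a * (c : Y)⁻¹) * c := by group
        _ = _ := e3
        _ = _ := by group
    have e4 := eq_one_of_commute R hij h1 ha ha1 (mul_mem (inv_mem c'.2) c.2) e2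
    exact Subtype.ext (inv_mul_eq_one.1 e4).symm
  have hcard : Nat.card (X (sr j)) = Nat.card (X (sr i + sr j)) := by
    have h3 := R.conj i _ (isRoot_sr cs h j)
    rw [rep_sr_sr hij h1] at h3
    rw [← h3]
    exact (Subgroup.card_map_of_injective (MulAut.conj (n i)).injective).symm
  have hbij := (Nat.bijective_iff_injective_and_card f).2 ⟨hinj, hcard⟩
  obtain ⟨c, hc⟩ := hbij.2 ⟨z, hz⟩
  exact ⟨c, c.2, congrArg Subtype.val hc⟩

theorem mem_Sup_singleton {S : Set (I → ℤ)} {z : I → ℤ} (hS : ∀ x ∈ S, x = z) {a : Y} (ha : a ∈ RGD.Sup X S) :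
    a ∈ X z := by
  refine (RGD.Sup_le (K := X z) (fun x hx => ?_)) ha
  rw [hS x hx]

/-- `X α_j` commutes with `X (α_i + α_j)` -/
theorem comm_A2 {i j : I} (hij : i ≠ j) (h1 : A i j = -1) (h2 : A j i = -1) {c z : Y} (hc : c ∈ X (sr j))
    (hz : z ∈ X (sr i + sr j)) : c * z = z * c := by
  have hne : sr j ≠ sr i + sr j := fun e => by
    have := congrFun e i
    rw [Pi.add_apply, sr_self, sr_ne hij] at this
    omega
  have hne' : sr j ≠ -(sr i + sr j) := fun e => by
    have := congrFun e j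
    rw [Pi.neg_apply, Pi.add_apply, sr_self, sr_ne (Ne.symm hij)] at this
    omega
  have h3 := R.comm _ _ (isRoot_sr cs h j) (isRoot_add hij h1) hne hne' c hc z hz
  have h4 : Nodes.Reps.btw cs h X (sr j) (sr i + sr j) = ⊥ := by
    unfold Cfsg.Agent.Nodes.Reps.btw
    rw [eq_bot_iff]
    refine iSup_le ?_
    rintro ⟨w, hw⟩
    exfalso
    have hpos : w ∈ PosJ cs h ({i, j} : Set I) := by
      refine ⟨hw.1, btwn_nonneg hw (sr_nonneg j) (add_nonneg (sr_nonneg i) (sr_nonneg j)), fun k hk => ?_⟩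
      have hki : k ≠ i := by rintro rfl; exact hk (by simp)
      have hkj : k ≠ j := by rintro rfl; exact hk (by simp)
      exact btwn_apply_zero hw (sr_ne hkj) (by rw [Pi.add_apply, sr_ne hki, sr_ne hkj, add_zero])
    obtain ⟨-, m, a, b, hm, ha, hb, e⟩ := hw
    have e1 := congrFun e i
    have e2 := congrFun e j
    rcases posJ_A2 hij h1 h2 hpos with rfl | rfl | rfl <;>
      simp only [Pi.smul_apply, Pi.add_apply, smul_eq_mul, sr_self, sr_ne hij, sr_ne (Ne.symm hij)] at e1 e2 <;>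
      nlinarith
  rw [h4, Subgroup.mem_bot, commutatorElement_eq_one_iff_mul_comm] at h3
  exact h3

/-- **the step**: from a nontrivial `α_i`-part to a nontrivial `α_j`-part -/
theorem exists_conj_step [Finite Y] [Finite W] {i j : I} (hij : i ≠ j) (h1 : A i j = -1) (h2 : A j i = -1) {g : Y}
    (hg : g ∈ RGD.Sup X (RGD.Pos cs h)) (hgi : g ∉ VJ cs h X {i}) :
    ∃ x ∈ LJ cs h T X ({i, j} : Set I), x * g * x⁻¹ ∈ RGD.Sup X (RGD.Pos cs h) ∧ x * g * x⁻¹ ∉ VJ cs h X {j} := by
  by_cases hgj : g ∈ VJ cs h X {j}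
  swap
  · exact ⟨1, one_mem _, by simpa using hg, by simpa using hgj⟩
  obtain ⟨l, hl, v, hv, rfl⟩ := (mem_U_iff R (J := ({i, j} : Set I))).1 hg
  have hanti : ∀ {J J' : Set I}, J ⊆ J' → VJ cs h X J' ≤ VJ cs h X J := by
    intro J J' hJ
    refine RGD.Sup_mono ?_
    rintro x ⟨hx, h0, k, hk, hk0⟩
    exact ⟨hx, h0, k, fun hk' => hk (hJ hk'), hk0⟩
  have hVi : VJ cs h X ({i, j} : Set I) ≤ VJ cs h X {i} := hanti (by simp)
  have hVj : VJ cs h X ({i, j} : Set I) ≤ VJ cs h X {j} := hanti (by simp)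
  have hlj : l ∈ VJ cs h X {j} := by
    have h3 : l = (l * v) * v⁻¹ := by group
    rw [h3]
    exact mul_mem hgj (inv_mem (hVj hv))
  have hcl : ∀ {x y z : I → ℤ}, x ∈ PosJ cs h ({i, j} : Set I) → y ∈ PosJ cs h ({i, j} : Set I) → Btwn cs h x y z →
      z ∈ PosJ cs h ({i, j} : Set I) := fun hx hy hz =>
    ⟨hz.1, btwn_nonneg hz hx.2.1 hy.2.1, fun k hk => btwn_apply_zero hz (hx.2.2 k hk) (hy.2.2 k hk)⟩
  have hi0 : sr i ∈ PosJ cs h ({i, j} : Set I) := sr_mem_PosJ (by simp)
  have hj0 : sr j ∈ PosJ cs h ({i, j} : Set I) := sr_mem_PosJ (by simp)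
  have hsri : sr j ≠ sr i := fun e => hij (by
    by_contra
    have := congrFun e i
    rw [sr_self, sr_ne hij] at this
    omega)
  -- first factor
  obtain ⟨m, hm, xj, hxj, e1⟩ := exists_mul R (S := PosJ cs h ({i, j} : Set I)) (i := j)
    (fun x hx => ⟨hx.1, hx.2.1⟩) hj0 (fun y hy _ z hz => hcl hj0 hy hz) hl
  have hmV : m ∈ VJ cs h X {j} := by
    refine (RGD.Sup_mono ?_) hm
    rintro x ⟨hx, hxj'⟩
    refine ⟨hx.1, hx.2.1, i, by simpa using hij, ?_⟩
    rcases posJ_A2 hij h1 h2 hx with rfl | rfl | rfl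
    · rw [sr_self]; norm_num
    · exact absurd rfl hxj'
    · rw [Pi.add_apply, sr_self, sr_ne hij]; norm_num
  have hxj1 : xj = 1 := by
    refine eq_one_of_mem_VJ R hxj ?_
    have h3 : xj = m⁻¹ * l := by rw [e1]; group
    rw [h3]
    exact mul_mem (inv_mem hmV) hlj
  rw [hxj1, mul_one] at e1
  subst e1
  -- second factor
  obtain ⟨z, hz, a, ha, e2⟩ := exists_mul R (S := PosJ cs h ({i, j} : Set I) \ {sr j}) (i := i)
    (fun x hx => ⟨hx.1.1, hx.1.2.1⟩) ⟨hi0, fun e => hsri e.symm⟩ (fun y hy _ w hw => ⟨hcl hi0 hy.1 hw, by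
      intro e
      have h3 : 0 < w i := btwn_apply_pos hw (by rw [sr_self]; norm_num) (hy.1.2.1 i)
      rw [Set.mem_singleton_iff.1 e, sr_ne hij] at h3
      omega⟩) hm
  have hz' : z ∈ X (sr i + sr j) := by
    refine mem_Sup_singleton R ?_ hz
    rintro x ⟨⟨hx, hxj'⟩, hxi⟩
    rcases posJ_A2 hij h1 h2 hx with rfl | rfl | rfl
    · exact absurd rfl hxi
    · exact absurd rfl hxj'
    · rfl
  have ha1 : a ≠ 1 := by
    rintro rfl
    apply hgi
    rw [e2, mul_one]
    refine mul_mem (X_le_VJ R (isRoot_add hij h1) (add_nonneg (sr_nonneg i) (sr_nonneg j)) (J := {i}) (k := j)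
      (by simpa using Ne.symm hij) ?_ hz') (hVi hv)
    rw [Pi.add_apply, sr_self, sr_ne (Ne.symm hij)]
    norm_num
  obtain ⟨c, hc, e3⟩ := exists_comm_eq R hij h1 h2 ha ha1 (inv_mem hz')
  have e4 : c * (z * a) * c⁻¹ = a := by
    have e5 : c * a * c⁻¹ = z⁻¹ * a := by
      rw [← e3, commutatorElement_def]; group
    have e6 := comm_A2 R hij h1 h2 hc hz'
    calc c * (z * a) * c⁻¹ = (c * z) * c⁻¹ * (c * a * c⁻¹) := by group
      _ = (z * c) * c⁻¹ * (z⁻¹ * a) := by rw [e5, e6]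
      _ = a := by group
  have hni := rp_simple cs R.nsys i
  have hnj := rp_simple cs R.nsys j
  have e7 : n j * a * (n j)⁻¹ ∈ X (sr j + sr i) := by
    have := R.conj_mem hnj (isRoot_sr cs h i) ha
    rwa [rep_sr_sr (Ne.symm hij) h2] at this
  have e8 : n i * (n j * a * (n j)⁻¹) * (n i)⁻¹ ∈ X (sr j) := by
    have := R.conj_mem hni (isRoot_add (Ne.symm hij) h2) e7
    rwa [map_add, rep_sr_sr hij h1, rep_simple_sr, add_comm (sr i), add_neg_cancel_right] at this
  set x := n i * n j * c with hx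
  have hxL : x ∈ LJ cs h T X ({i, j} : Set I) :=
    mul_mem (mul_mem (n_mem_LJ R (by simp)) (n_mem_LJ R (by simp))) (X_le_LJ (PosJ_subset _ hj0) hc)
  have e9 : x * l * x⁻¹ = n i * (n j * a * (n j)⁻¹) * (n i)⁻¹ := by
    calc x * l * x⁻¹ = n i * (n j * (c * (z * a) * c⁻¹) * (n j)⁻¹) * (n i)⁻¹ := by rw [e2, hx]; group
      _ = _ := by rw [e4]
  have e10 : x * (l * v) * x⁻¹ = (x * l * x⁻¹) * (x * v * x⁻¹) := by group
  have hv' : x * v * x⁻¹ ∈ VJ cs h X ({i, j} : Set I) :=
    (Subgroup.mem_normalizer_iff.1 (LJ_le_normalizer_VJ R _ hxL) v).1 hv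
  refine ⟨x, hxL, ?_, ?_⟩
  · rw [e10, e9]
    exact mul_mem (RGD.le_Sup (S := RGD.Pos cs h) (z := sr j) ⟨isRoot_sr cs h j, sr_nonneg j⟩ e8) (VJ_le_U _ hv')
  · intro hcon
    rw [e10, e9] at hcon
    have h3 : n i * (n j * a * (n j)⁻¹) * (n i)⁻¹ ∈ VJ cs h X {j} := by
      have h4 := mul_mem hcon (inv_mem (hVj hv'))
      rwa [mul_inv_cancel_right] at h4
    have h5 := eq_one_of_mem_VJ R e8 h3
    apply ha1
    have h6 : a = (n j)⁻¹ * ((n i)⁻¹ * (n i * (n j * a * (n j)⁻¹) * (n i)⁻¹) * n i) * n j := by group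
    rw [h6, h5]
    group

/-- **every nontrivial `r`-element has a conjugate in `U` outside `V_J`**, `J ∪ {i} = univ`, `j ∈ J` joined to `i` by a
simple edge -/
theorem exists_conj_notMem [Finite Y] [Finite W] [Nonempty I] [Fact r.Prime] (hG : GG cs h T X = ⊤)
    (hS : IsSimpleGroup Y) {J : Set I} {i j : I} (hJ : ∀ k, k ∈ J ∨ k = i) (hj : j ∈ J) (hij : i ≠ j)
    (h1 : A i j = -1) (h2 : A j i = -1) {g : Y} (hg1 : g ≠ 1) {k : ℕ} (hg : g ^ r ^ k = 1) :
    ∃ x : Y, x * g * x⁻¹ ∈ RGD.Sup X (RGD.Pos cs h) ∧ x * g * x⁻¹ ∉ VJ cs h X J := by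
  have hJ' : ∀ k, k ∈ J ∨ k ∈ ({i} : Set I) := fun k => (hJ k).imp_right fun e => by simpa using e
  obtain ⟨x, hx, h3 | h3⟩ := H537.Pw.exists_conj_notMem_VJ R hG hS hJ' hg1 hg
  · exact ⟨x, hx, h3⟩
  · obtain ⟨y, -, h4, h5⟩ := exists_conj_step R hij h1 h2 hx h3
    refine ⟨y * x, ?_, ?_⟩
    · have e : y * x * g * (y * x)⁻¹ = y * (x * g * x⁻¹) * y⁻¹ := by group
      rw [e]; exact h4
    · have e : y * x * g * (y * x)⁻¹ = y * (x * g * x⁻¹) * y⁻¹ := by group
      rw [e]
      intro h6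
      apply h5
      refine (RGD.Sup_mono ?_) h6
      rintro z ⟨hz, h0, k, hk, hk0⟩
      exact ⟨hz, h0, k, fun hk' => hk (by rw [Set.mem_singleton_iff.1 hk']; exact hj), hk0⟩

end

end Cfsg.Agent.H934.FF
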