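import Mathlib

/-!
# Coordinates of a special group (helper934)

`H0`: elements `x i t`, `z a` with `[x i s, x j t] = z (b i j s t)`, `z a` central. `X v` (`v : ι → F`) is the product of
the `x i (v i)`; `comm : X v * X w = X w * X v * z (om v w)`; `mem_cl`: the group generated is the set of the
`X v * z a`. `engine`: an element `x₀` centralising all `z a`, which moves `x k t` to `x i (e t)` for `i ∈ A` and commutes
with the partners of the `x i t`, `i ∉ A`: for every `g = X v * z a` some `y` has `y (x₀ g) y⁻¹ = x₀ g z d`, `d ≠ 0`, or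
`x₀ g` is conjugate to some `x₀ z d`.
-/

set_option autoImplicit false

namespace Cfsg.Agent.H934.FF

/-- Root elements of a special group. -/
structure H0 (Γ F ι : Type*) [Group Γ] [Field F] where
  x : ι → F → Γ
  z : F → Γ
  x_add : ∀ i s t, x i (s + t) = x i s * x i t
  z_add : ∀ s t, z (s + t) = z s * z t
  x_z : ∀ i t a, x i t * z a = z a * x i t
  b : ι → ι → F
  x_comm : ∀ i j s t, x i s * x j t = x j t * x i s * z (b i j * s * t)

namespace H0

variable {Γ F ι : Type*} [Group Γ] [Field F] [Fintype ι] [DecidableEq ι] (R : H0 Γ F ι)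

omit [Fintype ι] [DecidableEq ι] in
theorem x_zero (i : ι) : R.x i 0 = 1 := by
  have h := R.x_add i 0 0
  rw [add_zero] at h
  exact mul_right_cancel (b := R.x i 0) (by rw [← h, one_mul])

omit [Fintype ι] [DecidableEq ι] in
theorem z_zero : R.z 0 = 1 := by
  have h := R.z_add 0 0
  rw [add_zero] at h
  exact mul_right_cancel (b := R.z 0) (by rw [← h, one_mul])

omit [Fintype ι] [DecidableEq ι] in
theorem x_neg (i : ι) (t : F) : R.x i (-t) = (R.x i t)⁻¹ := by
  rw [eq_inv_iff_mul_eq_one, ← R.x_add, neg_add_cancel, R.x_zero]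

omit [Fintype ι] [DecidableEq ι] in
theorem z_neg (a : F) : R.z (-a) = (R.z a)⁻¹ := by
  rw [eq_inv_iff_mul_eq_one, ← R.z_add, neg_add_cancel, R.z_zero]

omit [Fintype ι] [DecidableEq ι] in
theorem z_z (a b : F) : R.z a * R.z b = R.z b * R.z a := by rw [← R.z_add, ← R.z_add, add_comm]

/-- Product over a list. -/
def P (l : List ι) (v : ι → F) : Γ := (l.map fun i => R.x i (v i)).prod

omit [Fintype ι] [DecidableEq ι] in
theorem P_nil (v : ι → F) : R.P [] v = 1 := rfl

omit [Fintype ι] [DecidableEq ι] in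
theorem P_cons (i : ι) (l : List ι) (v : ι → F) : R.P (i :: l) v = R.x i (v i) * R.P l v := by
  simp [P]

omit [Fintype ι] [DecidableEq ι] in
theorem P_z (l : List ι) (v : ι → F) (a : F) : R.P l v * R.z a = R.z a * R.P l v := by
  induction l with
  | nil => simp [P_nil]
  | cons i l ih => rw [P_cons, mul_assoc, ih, ← mul_assoc, R.x_z, mul_assoc]

omit [Fintype ι] [DecidableEq ι] in
theorem x_P_comm' (i : ι) (t : F) (l : List ι) (v : ι → F) :
    R.x i t * R.P l v = R.P l v * R.x i t * R.z ((l.map fun j => R.b i j * t * v j).sum) := by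
  induction l with
  | nil => rw [P_nil, List.map_nil, List.sum_nil, R.z_zero, mul_one, one_mul, mul_one]
  | cons j l ih =>
    rw [P_cons, ← mul_assoc, R.x_comm i j t (v j), mul_assoc (R.x j (v j) * R.x i t), ← R.P_z, ← mul_assoc,
      mul_assoc (R.x j (v j)), ih, List.map_cons, List.sum_cons, add_comm, R.z_add]
    simp only [mul_assoc]

omit [Fintype ι] [DecidableEq ι] in
theorem P_add (l : List ι) (v w : ι → F) : ∃ a, R.P l (v + w) = R.P l v * R.P l w * R.z a := by
  induction l with
  | nil => exact ⟨0, by rw [P_nil, P_nil, P_nil, R.z_zero, one_mul, one_mul]⟩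
  | cons i l ih =>
    obtain ⟨a, ha⟩ := ih
    obtain ⟨b, hb⟩ : ∃ b, R.x i (w i) * R.P l v = R.P l v * R.x i (w i) * R.z b := ⟨_, R.x_P_comm' i (w i) l v⟩
    refine ⟨b + a, ?_⟩
    have h1 : R.x i (w i) * R.P l v * (R.P l w * R.z a) = R.P l v * (R.x i (w i) * R.P l w) * R.z (b + a) := by
      rw [hb, R.z_add, mul_assoc (R.P l v * R.x i (w i)), ← mul_assoc (R.z b), ← R.P_z l w b]
      simp only [mul_assoc]
    rw [P_cons, P_cons, P_cons, Pi.add_apply, R.x_add, ha]
    calc R.x i (v i) * R.x i (w i) * (R.P l v * R.P l w * R.z a)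
        = R.x i (v i) * (R.x i (w i) * R.P l v * (R.P l w * R.z a)) := by simp only [mul_assoc]
      _ = _ := by rw [h1]; simp only [mul_assoc]

omit [Fintype ι] in
theorem P_single_not_mem {i : ι} {l : List ι} (h : i ∉ l) (t : F) : R.P l (Pi.single i t) = 1 := by
  induction l with
  | nil => rfl
  | cons j l ih =>
    rw [List.mem_cons, not_or] at h
    rw [P_cons, Pi.single_eq_of_ne (Ne.symm h.1), R.x_zero, one_mul, ih h.2]

omit [Fintype ι] in
theorem P_single {i : ι} {l : List ι} (hl : l.Nodup) (h : i ∈ l) (t : F) : R.P l (Pi.single i t) = R.x i t := by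
  induction l with
  | nil => simp at h
  | cons j l ih =>
    rw [List.nodup_cons] at hl
    rw [P_cons]
    rcases eq_or_ne i j with rfl | hij
    · rw [Pi.single_eq_same, R.P_single_not_mem hl.1, mul_one]
    · rw [Pi.single_eq_of_ne (Ne.symm hij), R.x_zero, one_mul]
      exact ih hl.2 (List.mem_of_ne_of_mem hij h)

/-- The element of the special group with given coordinates. -/
noncomputable def X (v : ι → F) : Γ := R.P (Finset.univ : Finset ι).toList v

omit [DecidableEq ι] in
theorem X_add (v w : ι → F) : ∃ a, R.X (v + w) = R.X v * R.X w * R.z a := R.P_add _ v w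

omit [DecidableEq ι] in
theorem X_z (v : ι → F) (a : F) : R.X v * R.z a = R.z a * R.X v := R.P_z _ v a

theorem X_single (i : ι) (t : F) : R.X (Pi.single i t) = R.x i t :=
  R.P_single (Finset.nodup_toList _) (Finset.mem_toList.2 (Finset.mem_univ i)) t

omit [DecidableEq ι] in
theorem X_zero : R.X 0 = 1 := by
  unfold X
  generalize (Finset.univ : Finset ι).toList = l
  induction l with
  | nil => rfl
  | cons i l ih => rw [P_cons, ih, Pi.zero_apply, R.x_zero, one_mul]

omit [DecidableEq ι] in
theorem x_X (i : ι) (t : F) (v : ι → F) :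
    R.x i t * R.X v = R.X v * R.x i t * R.z (∑ j, R.b i j * t * v j) := by
  have h := R.x_P_comm' i t (Finset.univ : Finset ι).toList v
  rw [Finset.sum_map_toList] at h
  exact h

/-- The group of all `X v * z a`. -/
def Qg : Subgroup Γ where
  carrier := {g | ∃ v a, g = R.X v * R.z a}
  one_mem' := ⟨0, 0, by rw [R.X_zero, R.z_zero, mul_one]⟩
  mul_mem' := by
    rintro _ _ ⟨v, a, rfl⟩ ⟨w, b, rfl⟩
    obtain ⟨c, hc⟩ := R.X_add v w
    refine ⟨v + w, a + b - c, ?_⟩
    rw [hc, sub_eq_add_neg, R.z_add, R.z_add, R.z_neg]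
    have h1 : R.z c * (R.z a * R.z b * (R.z c)⁻¹) = R.z a * R.z b := by
      rw [← mul_assoc, mul_inv_eq_iff_eq_mul, ← R.z_add a b, R.z_z]
    calc R.X v * R.z a * (R.X w * R.z b) = R.X v * (R.z a * R.X w) * R.z b := by simp only [mul_assoc]
      _ = R.X v * R.X w * (R.z a * R.z b) := by rw [← R.X_z]; simp only [mul_assoc]
      _ = R.X v * R.X w * (R.z c * (R.z a * R.z b * (R.z c)⁻¹)) := by rw [h1]
      _ = _ := by simp only [mul_assoc]
  inv_mem' := by
    rintro _ ⟨v, a, rfl⟩
    obtain ⟨c, hc⟩ := R.X_add v (-v)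
    rw [add_neg_cancel, R.X_zero] at hc
    refine ⟨-v, c - a, ?_⟩
    rw [mul_inv_rev, sub_eq_add_neg, add_comm, R.z_add, R.z_neg]
    have h2 : (R.X v)⁻¹ = R.X (-v) * R.z c := by
      rw [inv_eq_iff_mul_eq_one, ← mul_assoc, ← hc]
    rw [h2, ← mul_assoc, ← mul_assoc]
    congr 1
    rw [← R.z_neg, R.X_z]

omit [DecidableEq ι] in
theorem mem_Qg {g : Γ} : g ∈ R.Qg ↔ ∃ v a, g = R.X v * R.z a := Iff.rfl

omit [DecidableEq ι] in
theorem z_mem (a : F) : R.z a ∈ R.Qg := ⟨0, a, by rw [R.X_zero, one_mul]⟩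

theorem x_mem (i : ι) (t : F) : R.x i t ∈ R.Qg := ⟨Pi.single i t, 0, by rw [R.X_single, R.z_zero, mul_one]⟩

/-- **The engine.** -/
theorem engine {x0 : Γ} (A : ι → Prop) (hz : ∀ a, x0 * R.z a = R.z a * x0)
    (hB : ∀ i, ¬ A i → ∃ k, (∀ t, R.x k t * x0 = x0 * R.x k t) ∧ R.b k i ≠ 0 ∧ ∀ j, j ≠ i → R.b k j = 0)
    (hA : ∀ i, A i → ∃ k e, e ≠ 0 ∧ ∀ t, ∃ a, R.x k t * x0 * (R.x k t)⁻¹ = x0 * R.x i (e * t) * R.z a)
    {g : Γ} (hg : g ∈ R.Qg) :
    (∃ k t d, d ≠ 0 ∧ R.x k t * (x0 * g) * (R.x k t)⁻¹ = x0 * g * R.z d) ∨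
      ∃ h ∈ R.Qg, ∃ d, h * (x0 * g) * h⁻¹ = x0 * R.z d := by
  obtain ⟨v, a, rfl⟩ := hg
  by_cases hv : ∃ i, ¬ A i ∧ v i ≠ 0
  · left
    obtain ⟨i, hi, hvi⟩ := hv
    obtain ⟨k, h1, h2, h3⟩ := hB i hi
    refine ⟨k, 1, R.b k i * v i, mul_ne_zero h2 hvi, ?_⟩
    have h4 := R.x_X k 1 v
    rw [Finset.sum_eq_single i (fun j _ hj => by rw [h3 j hj, zero_mul, zero_mul])
      (fun h => absurd (Finset.mem_univ i) h), mul_one] at h4
    rw [mul_inv_eq_iff_eq_mul, ← mul_assoc, h1, mul_assoc x0, ← mul_assoc (R.x k 1), h4]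
    simp only [mul_assoc]
    congr 2
    rw [← R.z_add, R.x_z, add_comm, R.z_add, mul_assoc]
  · right
    push Not at hv
    -- reduction of the coordinates in a finite set
    have key : ∀ s : Finset ι, ∀ w : ι → F, (∀ i, ¬ A i → w i = 0) → (∀ i, i ∉ s → w i = 0) → ∀ a,
        ∃ h ∈ R.Qg, ∃ d, h * (x0 * (R.X w * R.z a)) * h⁻¹ = x0 * R.z d := by
      intro s
      induction s using Finset.induction_on with
      | empty =>
        intro w _ h2 a
        have h3 : w = 0 := funext fun i => h2 i (Finset.notMem_empty i)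
        refine ⟨1, one_mem _, a, ?_⟩
        rw [h3, R.X_zero]
        group
      | insert i s hi ih =>
        intro w h1 h2 a
        by_cases hAi : A i
        · obtain ⟨k, e, he, h3⟩ := hA i hAi
          obtain ⟨b, hb⟩ := h3 (-(w i) / e)
          rw [mul_div_cancel₀ _ he] at hb
          obtain ⟨c, hc⟩ := R.X_add (Pi.single i (-(w i))) w
          rw [R.X_single] at hc
          have h4 := R.x_X k (-(w i) / e) w
          generalize (∑ j, R.b k j * (-(w i) / e) * w j) = f at h4
          have hy : R.x k (-(w i) / e) ∈ R.Qg := R.x_mem k _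
          have hyz := R.x_z k (-(w i) / e)
          generalize R.x k (-(w i) / e) = y at hb h4 hy hyz
          obtain ⟨h, hh, d, hd⟩ := ih (Pi.single i (-(w i)) + w) (fun j hj => by
              rw [Pi.add_apply, h1 j hj, Pi.single_eq_of_ne (fun h => hj (by rw [h]; exact hAi)), add_zero])
            (fun j hj => by
              rcases eq_or_ne j i with rfl | hji
              · rw [Pi.add_apply, Pi.single_eq_same, neg_add_cancel]
              · rw [Pi.add_apply, Pi.single_eq_of_ne hji, zero_add]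
                exact h2 j (fun h => (Finset.mem_insert.1 h).elim hji hj)) (b + f + a - c)
          refine ⟨h * y, mul_mem hh hy, d, ?_⟩
          rw [← hd, mul_inv_rev]
          have h5 : y * (x0 * (R.X w * R.z a)) * y⁻¹ =
              x0 * (R.X (Pi.single i (-(w i)) + w) * R.z (b + f + a - c)) := by
            have e1 : y * (x0 * (R.X w * R.z a)) * y⁻¹ = (y * x0 * y⁻¹) * (y * R.X w) * R.z a * y⁻¹ := by group
            have e2 : R.z c * R.z (b + f + a - c) = R.z b * (R.z f * R.z a) := by
              rw [← R.z_add, ← R.z_add, ← R.z_add]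
              congr 1
              ring
            have e3 : y * (R.z f * R.z a) * y⁻¹ = R.z f * R.z a := by
              rw [← R.z_add, hyz, mul_inv_cancel_right]
            rw [e1, hb, h4, hc]
            calc x0 * R.x i (-(w i)) * R.z b * (R.X w * y * R.z f) * R.z a * y⁻¹
                = x0 * R.x i (-(w i)) * (R.z b * R.X w) * (y * (R.z f * R.z a) * y⁻¹) := by simp only [mul_assoc]
              _ = x0 * (R.x i (-(w i)) * R.X w * (R.z b * (R.z f * R.z a))) := by
                rw [e3, ← R.X_z]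
                simp only [mul_assoc]
              _ = _ := by
                rw [← e2]
                simp only [mul_assoc]
          calc h * y * (x0 * (R.X w * R.z a)) * (y⁻¹ * h⁻¹)
              = h * (y * (x0 * (R.X w * R.z a)) * y⁻¹) * h⁻¹ := by group
            _ = _ := by rw [h5]
        · exact ih w h1 (fun j hj => by
            rcases eq_or_ne j i with rfl | hji
            · exact h1 j hAi
            · exact h2 j (fun h => (Finset.mem_insert.1 h).elim hji hj)) a
    exact key Finset.univ v (fun i hi => by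
      by_contra h
      exact h (by simpa using hv i hi)) (fun i hi => absurd (Finset.mem_univ i) hi) a

end H0

end Cfsg.Agent.H934.FF
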