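import Cfsg.Agent.H934.FF.Act
import Cfsg.Agent.H323.Pw.Odd

/-!
# S2465, `F₄(3)`: `V_J`, `J = {0, 1, 2}`, is extraspecial of order `3^15` (helper934)

* `xs_gen` : `XS 3 V_J z` in every subgroup `H` of `F₄(3)` which contains and normalises `V_J` and centralises
  `z = x_θ(1)`;
* `card_Qg`, `card_VJ` : the order of `V_J`.
-/

set_option autoImplicit false
set_option linter.unusedSectionVars false

namespace Cfsg.Agent.H934.FF

open CoxeterSystem Cfsg.Agent.ChevalleyStructure.CoxeterGeom Cfsg.Agent.Tits.Roots Cfsg.Agent.Tits.Core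
  Cfsg.Agent.Nodes.Reps Cfsg.Agent.Nodes.BNOf Cfsg.Agent.Nodes.RGDLib Cfsg.Agent.Nodes.Bruhat
  Cfsg.Agent.Nodes.OppDec Cfsg.Agent.Nodes.LeviDec Cfsg.Agent.Nodes.StabComb
open Cfsg.Lie Cfsg.Agent.ChevalleyStructure Cfsg.Agent.ChevalleyStructure.Elts
  Cfsg.Agent.ChevalleyStructure.CoxeterGeomTypes
  Cfsg.Agent.Nodes.RGDChev Cfsg.Agent.KFacts.RgdChevCoord Cfsg.Agent.H934.HeisChev Cfsg.Agent.H537.Pw
open Cfsg.Agent.H323.Pw

universe u

theorem card_Qg {F : Type u} [Field F] (h2 : (2 : F) ≠ 0) : Nat.card ↥(hh F).Qg = Nat.card F ^ 15 := by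
  have e : Function.Bijective (fun p : (Fin 14 → F) × F => (⟨(hh F).X p.1 * (hh F).z p.2, ⟨p.1, p.2, rfl⟩⟩ : ↥(hh F).Qg)) := by
    constructor
    · rintro ⟨v, a⟩ ⟨w, b⟩ h
      obtain ⟨h3, h4⟩ := uniq h2 (congrArg Subtype.val h)
      exact Prod.ext h3 h4
    · rintro ⟨g, v, a, rfl⟩
      exact ⟨(v, a), rfl⟩
  rw [← Nat.card_congr (Equiv.ofBijective _ e), Nat.card_prod, Nat.card_fun, Nat.card_eq_fintype_card (α := Fin 14),
    Fintype.card_fin, ← pow_succ]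

theorem card_VJ {F : Type u} [Field F] (h2 : (2 : F) ≠ 0) :
    Nat.card ↥(VJ CoxeterMatrix.F₄.toCoxeterSystem isType_F4.isCartan (XX chevF4 4 F) ({0, 1, 2} : Set (Fin 4))) =
      Nat.card F ^ 15 := by
  rw [VJ_eq_Qg, card_Qg h2]

theorem two_ne : (2 : ZMod 3) ≠ 0 := by decide

theorem z_nsmul (n : ℕ) : (xe hF 47 (1 : ZMod 3)) ^ n = xe hF 47 (n : ZMod 3) := by
  induction n with
  | zero => rw [pow_zero, Nat.cast_zero, xe_zero]
  | succ n ih => rw [pow_succ, ih, ← xe_add, Nat.cast_succ]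

theorem z_mem_zpowers (a : ZMod 3) : xe hF 47 a ∈ Subgroup.zpowers (xe hF 47 (1 : ZMod 3)) := by
  refine ⟨(a.val : ℤ), ?_⟩
  show xe hF 47 (1 : ZMod 3) ^ (a.val : ℤ) = _
  rw [zpow_natCast, z_nsmul, ZMod.natCast_zmod_val]

theorem mem_zpowers_iff {g : ↥(chevF4.group (ZMod 3))} :
    g ∈ Subgroup.zpowers (xe hF 47 (1 : ZMod 3)) ↔ ∃ a, g = xe hF 47 a := by
  constructor
  · rintro ⟨n, rfl⟩
    refine ⟨(n : ZMod 3), ?_⟩
    let φ : Multiplicative (ZMod 3) →* ↥(chevF4.group (ZMod 3)) :=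
      { toFun := fun v => xe hF 47 (Multiplicative.toAdd v)
        map_one' := xe_zero hF 47
        map_mul' := fun a b => xe_add hF 47 _ _ }
    have h1 := map_zpow φ (Multiplicative.ofAdd 1) n
    rw [← ofAdd_zsmul, zsmul_one] at h1
    exact h1.symm
  · rintro ⟨a, rfl⟩
    exact z_mem_zpowers a

theorem orderOf_z : orderOf (xe hF 47 (1 : ZMod 3)) = 3 := by
  apply orderOf_eq_prime
  · rw [z_nsmul]
    exact xe_zero hF 47
  · intro h
    exact one_ne_zero (z_inj' _ h)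

theorem cube_one (w : Multiplicative (Fin 14 → ZMod 3)) : w ^ 3 = 1 := by
  apply Multiplicative.toAdd.injective
  rw [toAdd_pow, toAdd_one]
  funext i
  rw [Pi.smul_apply, nsmul_eq_mul, ZMod.natCast_self, zero_mul, Pi.zero_apply]

/-- `V_J` is extraspecial -/
theorem xs_gen {H : Subgroup ↥(chevF4.group (ZMod 3))} (hQ : (hh (ZMod 3)).Qg ≤ H)
    (hn : ∀ g ∈ H, ∀ x ∈ (hh (ZMod 3)).Qg, g * x * g⁻¹ ∈ (hh (ZMod 3)).Qg)
    (hc : ∀ g ∈ H, g * xe hF 47 1 = xe hF 47 1 * g) :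
    XS 3 ((hh (ZMod 3)).Qg.subgroupOf H) ⟨xe hF 47 1, hQ ((hh _).z_mem 1)⟩ := by
  have key : ∀ x : ↥H, (∃ a, (x : ↥(chevF4.group (ZMod 3))) = xe hF 47 a) →
      x ∈ Subgroup.zpowers (⟨xe hF 47 1, hQ ((hh _).z_mem 1)⟩ : ↥H) := by
    rintro x ⟨a, ha⟩
    refine ⟨(a.val : ℤ), Subtype.ext ?_⟩
    show (xe hF 47 (1 : ZMod 3)) ^ (a.val : ℤ) = x
    rw [ha, zpow_natCast, z_nsmul, ZMod.natCast_zmod_val]
  constructor
  · exact ⟨fun x hx g => hn g g.2 x hx⟩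
  · exact (hh _).z_mem 1
  · have h1 := Subgroup.orderOf_coe (⟨xe hF 47 1, hQ ((hh _).z_mem 1)⟩ : ↥H)
    rw [← h1]
    exact orderOf_z
  · intro g
    exact Subtype.ext (hc g g.2)
  · intro x hx y hy
    apply key
    have h1 := comm_kap (h2 := two_ne) ⟨(x : ↥(chevF4.group (ZMod 3))), hx⟩ ⟨(y : ↥(chevF4.group (ZMod 3))), hy⟩
    refine ⟨(hh (ZMod 3)).om (Multiplicative.toAdd (kap two_ne ⟨(x : ↥(chevF4.group (ZMod 3))), hx⟩))
        (Multiplicative.toAdd (kap two_ne ⟨(y : ↥(chevF4.group (ZMod 3))), hy⟩)), ?_⟩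
    · have h2 : (x : ↥(chevF4.group (ZMod 3))) * y = xe hF 47 ((hh (ZMod 3)).om
          (Multiplicative.toAdd (kap two_ne ⟨(x : ↥(chevF4.group (ZMod 3))), hx⟩))
          (Multiplicative.toAdd (kap two_ne ⟨(y : ↥(chevF4.group (ZMod 3))), hy⟩))) * (y * x) := by
        rw [h1]
        generalize (hh (ZMod 3)).om _ _ = a
        have hz : ∀ g ∈ (hh (ZMod 3)).Qg, g * xe hF 47 a = xe hF 47 a * g := by
          rintro _ ⟨v, b, rfl⟩
          show (hh (ZMod 3)).X v * (hh (ZMod 3)).z b * (hh (ZMod 3)).z a = (hh (ZMod 3)).z a * ((hh (ZMod 3)).X v * (hh (ZMod 3)).z b)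
          rw [mul_assoc, (hh (ZMod 3)).z_z, ← mul_assoc, (hh (ZMod 3)).X_z, mul_assoc]
        exact hz _ (mul_mem hy hx)
      show (x : ↥(chevF4.group (ZMod 3))) * y * (x : ↥(chevF4.group (ZMod 3)))⁻¹ * (y : ↥(chevF4.group (ZMod 3)))⁻¹ = _
      rw [h2]
      group
  · intro x hx
    apply key
    have h1 : kap two_ne ((⟨(x : ↥(chevF4.group (ZMod 3))), hx⟩ : ↥(hh (ZMod 3)).Qg) ^ 3) = 1 := by
      rw [map_pow]
      generalize kap two_ne (⟨(x : ↥(chevF4.group (ZMod 3))), hx⟩ : ↥(hh (ZMod 3)).Qg) = w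
      exact cube_one w
    obtain ⟨a, ha⟩ := kap_eq_one.1 h1
    rw [Subgroup.coe_pow] at ha
    exact ⟨a, by rw [Subgroup.coe_pow]; exact ha⟩
  · intro x hx hxy
    apply key
    apply kap_eq_one (h2 := two_ne) (g := ⟨(x : ↥(chevF4.group (ZMod 3))), hx⟩) |>.1
    by_contra hne
    obtain ⟨w, hw⟩ := om_ne two_ne (Multiplicative.toAdd (kap two_ne ⟨(x : ↥(chevF4.group (ZMod 3))), hx⟩)) (fun h => hne
      (Multiplicative.toAdd.injective h))
    obtain ⟨y, hy⟩ := kap_surjective (h2 := two_ne) (Multiplicative.ofAdd w)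
    have h1 := comm_kap (h2 := two_ne) ⟨(x : ↥(chevF4.group (ZMod 3))), hx⟩ y
    rw [hy] at h1
    have h2 := congrArg Subtype.val (hxy ⟨y, hQ y.2⟩ y.2)
    change (x : ↥(chevF4.group (ZMod 3))) * y = y * x at h2
    change (x : ↥(chevF4.group (ZMod 3))) * y = _ at h1
    rw [h2] at h1
    exact hw (z_inj' _ (mul_left_cancel (a := (y : ↥(chevF4.group (ZMod 3))) * x) (by rw [mul_one]; exact h1.symm)))

end Cfsg.Agent.H934.FF
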